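import Groth.Prelude.Def_DeltaF
import Mathlib.Algebra.Category.Grp.Abelian
import Mathlib.Algebra.Category.Grp.EpiMono
import Mathlib.Algebra.Homology.ShortComplex.Ab
import Mathlib.CategoryTheory.Abelian.Exact

/-! Comparison of morphisms of delta-functors with values in abelian groups. -/

universe w v u

open CategoryTheory CategoryTheory.Limits

namespace Groth.Agent.DeltaIso38

variable {C : Type u} [Category.{v} C] [Abelian C]
variable (T T' : DeltaF.CohDeltaFunctor C AddCommGrpCat.{w} ℕ) (φ : T ⟶ T')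

/-- The short exact sequence of a monomorphism. -/
noncomputable abbrev coker {A M : C} (u : A ⟶ M) : ShortComplex C :=
  ShortComplex.mk u (cokernel.π u) (cokernel.condition u)

theorem coker_shortExact {A M : C} (u : A ⟶ M) [Mono u] : (coker u).ShortExact :=
  { exact := ShortComplex.exact_cokernel u }

theorem nat {X Y : C} (f : X ⟶ Y) (q : ℕ) (x : (T.F q).obj X) :
    (φ.app q).app Y ((T.F q).map f x) = (T'.F q).map f ((φ.app q).app X x) :=
  congrArg (fun k => k.hom x) ((φ.app q).naturality f)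

theorem commδ (S : ShortComplex C) (hS : S.ShortExact) (q : ℕ) (x : (T.F q).obj S.X₃) :
    (φ.app (q + 1)).app S.X₁ (T.δ S hS q (q + 1) rfl x) = T'.δ S hS q (q + 1) rfl ((φ.app q).app S.X₃ x) :=
  congrArg (fun k => k.hom x) (φ.comm S hS q (q + 1) rfl)

theorem ex₁ (S : ShortComplex C) (hS : S.ShortExact) (q : ℕ) (x : (T.F (q + 1)).obj S.X₁)
    (hx : (T.F (q + 1)).map S.f x = 0) : ∃ y, T.δ S hS q (q + 1) rfl y = x :=
  (ShortComplex.ab_exact_iff _).mp (T.exact₁ S hS q (q + 1) rfl) x hx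

theorem ex₂ (S : ShortComplex C) (hS : S.ShortExact) (q : ℕ) (x : (T.F q).obj S.X₂)
    (hx : (T.F q).map S.g x = 0) : ∃ y, (T.F q).map S.f y = x :=
  (ShortComplex.ab_exact_iff _).mp (T.exact₂ S hS q) x hx

theorem ex₃ (S : ShortComplex C) (hS : S.ShortExact) (q : ℕ) (x : (T.F q).obj S.X₃)
    (hx : T.δ S hS q (q + 1) rfl x = 0) : ∃ y, (T.F q).map S.g y = x :=
  (ShortComplex.ab_exact_iff _).mp (T.exact₃ S hS q (q + 1) rfl) x hx

theorem map_zero_of_comp {X Y Z : C} (f : X ⟶ Y) (g : Y ⟶ Z) (h : f ≫ g = 0) (q : ℕ) (x : (T.F q).obj X) :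
    (T.F q).map g ((T.F q).map f x) = 0 := by
  rw [← ConcreteCategory.comp_apply, ← Functor.map_comp, h, Functor.map_zero]
  rfl

theorem inj_step {q : ℕ} (hq : ∀ A, Function.Bijective ((φ.app q).app A))
    (A : C) (hT : ∀ α : (T.F (q + 1)).obj A, (φ.app (q + 1)).app A α = 0 →
      ∃ (M : C) (u : A ⟶ M), Mono u ∧ (T.F (q + 1)).map u α = 0) : Function.Injective ((φ.app (q + 1)).app A) := by
  refine (injective_iff_map_eq_zero ((φ.app (q + 1)).app A).hom).mpr fun α hα => ?_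
  obtain ⟨M, u, hu, hz⟩ := hT α hα
  have hS := coker_shortExact u
  obtain ⟨n, rfl⟩ := ex₁ T (coker u) hS q α hz
  have h := commδ T T' φ (coker u) hS q n
  rw [show ((φ.app (q + 1)).app (coker u).X₁) (T.δ (coker u) hS q (q + 1) rfl n) = 0 from hα] at h
  obtain ⟨m', hm'⟩ := ex₃ T' (coker u) hS q _ h.symm
  obtain ⟨m, rfl⟩ := (hq _).2 m'
  rw [← nat] at hm'
  rw [← (hq _).1 hm']
  exact congrArg (fun k => k.hom m) (T.comp_δ (coker u) hS q (q + 1) rfl)

theorem surj_step {q : ℕ} (hq : ∀ A, Function.Bijective ((φ.app q).app A))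
    (hinj : ∀ A, Function.Injective ((φ.app (q + 1)).app A))
    (A : C) (hE : ∀ α : (T'.F (q + 1)).obj A, ∃ (M : C) (u : A ⟶ M), Mono u ∧
      ∃ m, (φ.app (q + 1)).app M m = (T'.F (q + 1)).map u α) : Function.Surjective ((φ.app (q + 1)).app A) := by
  intro α
  obtain ⟨M, u, hu, m, hm⟩ := hE α
  have hS := coker_shortExact u
  have h0 : (T.F (q + 1)).map (coker u).g m = 0 := by
    refine hinj _ ?_
    rw [nat, hm, map_zero]
    exact map_zero_of_comp T' u (cokernel.π u) (cokernel.condition u) (q + 1) α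
  obtain ⟨a, rfl⟩ := ex₂ T (coker u) hS (q + 1) m h0
  have hd : (T'.F (q + 1)).map (coker u).f (α - (φ.app (q + 1)).app A a) = 0 := by
    rw [map_sub, ← nat]
    exact sub_eq_zero.mpr hm.symm
  obtain ⟨n', hn'⟩ := ex₁ T' (coker u) hS q _ hd
  obtain ⟨n, rfl⟩ := (hq _).2 n'
  rw [← commδ] at hn'
  refine ⟨a + T.δ (coker u) hS q (q + 1) rfl n, ?_⟩
  rw [map_add]
  exact eq_add_of_sub_eq' hn'.symm |>.symm

theorem bijective_zero (hT0 : T.ZeroMono) (hT'0 : T'.ZeroMono) (E : ObjectProperty C)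
    (hE : ∀ A : C, ∃ (M : C) (i : A ⟶ M), Mono i ∧ E M)
    (hφ : ∀ M, E M → Function.Bijective ((φ.app 0).app M)) (A : C) :
    Function.Bijective ((φ.app 0).app A) := by
  have hinj : ∀ A, Function.Injective ((φ.app 0).app A) := by
    intro A
    refine (injective_iff_map_eq_zero ((φ.app 0).app A).hom).mpr fun a ha => ?_
    obtain ⟨M, i, hi, hM⟩ := hE A
    refine (AddCommGrpCat.mono_iff_injective _).mp (hT0 (coker i) (coker_shortExact i)) ((hφ M hM).1 ?_)
    rw [nat, map_zero, map_zero]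
    exact (congrArg _ ha).trans (map_zero _)
  refine ⟨hinj A, fun a' => ?_⟩
  obtain ⟨M, i, hi, hM⟩ := hE A
  have hS := coker_shortExact i
  obtain ⟨m, hm⟩ := (hφ M hM).2 ((T'.F 0).map i a')
  have h0 : (T.F 0).map (coker i).g m = 0 := by
    refine hinj _ ?_
    rw [nat, hm, map_zero]
    exact map_zero_of_comp T' i (cokernel.π i) (cokernel.condition i) 0 a'
  obtain ⟨a, rfl⟩ := ex₂ T (coker i) hS 0 m h0
  exact ⟨a, (AddCommGrpCat.mono_iff_injective _).mp (hT'0 (coker i) hS) ((nat T T' φ _ 0 a).symm.trans hm)⟩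

end Groth.Agent.DeltaIso38
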