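import Groth.Agent.DeltaIso38.Basic
import Mathlib.Algebra.Category.Grp.Ulift
import Mathlib.Algebra.Category.Grp.FilteredColimits
import Mathlib.CategoryTheory.Limits.Preserves.Filtered
import Mathlib.CategoryTheory.Limits.Types.Filtered

/-! Filtered colimits of abelian groups indexed in an arbitrary universe, element-wise. -/

universe w v u

open CategoryTheory CategoryTheory.Limits

namespace Groth.Agent.DeltaIso38

variable {J : Type v} [SmallCategory J] [IsFiltered J] {K : J ⥤ AddCommGrpCat.{w}} {c : Cocone K}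

theorem colimit_elems (hc : IsColimit c) :
    (∀ x : c.pt, ∃ (j : J) (y : K.obj j), c.ι.app j y = x) ∧
      ∀ (j : J) (y : K.obj j), c.ι.app j y = 0 → ∃ (k : J) (f : j ⟶ k), K.map f y = 0 := by
  have : PreservesFilteredColimitsOfSize.{v, v} (forget AddCommGrpCat.{max w v}) :=
    preservesFilteredColimitsOfSize_of_univLE.{max w v, max w v} _
  let U : AddCommGrpCat.{w} ⥤ Type (max w v) := AddCommGrpCat.uliftFunctor.{v, w} ⋙ forget AddCommGrpCat.{max w v}
  have hu := isColimitOfPreserves U hc
  constructor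
  · intro x
    obtain ⟨j, y, hy⟩ := Types.jointly_surjective_of_isColimit hu ⟨x⟩
    exact ⟨j, y.down, congrArg ULift.down hy⟩
  · intro j y hy
    obtain ⟨k, f, g, h⟩ := (Types.FilteredColimit.isColimit_eq_iff _ hu (xi := (⟨y⟩ : ULift.{v} (K.obj j))) (xj := (⟨0⟩ : ULift.{v} (K.obj j)))).mp
      (congrArg ULift.up (hy.trans (map_zero _).symm))
    exact ⟨k, f, (congrArg ULift.down h).trans (map_zero _)⟩

variable {C : Type u} [Category.{v} C] [Abelian C]
variable (T T' : DeltaF.CohDeltaFunctor C AddCommGrpCat.{w} ℕ) (φ : T ⟶ T')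

theorem injective_colimit (q : ℕ) [PreservesFilteredColimitsOfSize.{v, v} (T.F q)]
    [PreservesFilteredColimitsOfSize.{v, v} (T'.F q)] {J : Type v} [SmallCategory J] [IsFiltered J]
    {K : J ⥤ C} {c : Cocone K} (hc : IsColimit c) (h : ∀ j, Function.Injective ((φ.app q).app (K.obj j))) :
    Function.Injective ((φ.app q).app c.pt) := by
  refine (injective_iff_map_eq_zero ((φ.app q).app c.pt).hom).mpr fun x hx => ?_
  obtain ⟨j, y, rfl⟩ := (colimit_elems (isColimitOfPreserves (T.F q) hc)).1 x
  have hy : (T'.F q).map (c.ι.app j) ((φ.app q).app (K.obj j) y) = 0 := (nat T T' φ _ q y).symm.trans hx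
  obtain ⟨k, f, hf⟩ := (colimit_elems (isColimitOfPreserves (T'.F q) hc)).2 j _ hy
  have hz : (T.F q).map (K.map f) y = 0 := h k (by rw [nat, map_zero]; exact hf)
  show (T.F q).map (c.ι.app j) y = 0
  rw [← c.w f, Functor.map_comp, ConcreteCategory.comp_apply, hz, map_zero]

theorem surjective_colimit (q : ℕ) [PreservesFilteredColimitsOfSize.{v, v} (T'.F q)]
    {J : Type v} [SmallCategory J] [IsFiltered J]
    {K : J ⥤ C} {c : Cocone K} (hc : IsColimit c) (h : ∀ j, Function.Surjective ((φ.app q).app (K.obj j))) :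
    Function.Surjective ((φ.app q).app c.pt) := by
  intro x
  obtain ⟨j, y, rfl⟩ := (colimit_elems (isColimitOfPreserves (T'.F q) hc)).1 x
  obtain ⟨z, rfl⟩ := h j y
  exact ⟨(T.F q).map (c.ι.app j) z, nat T T' φ _ q z⟩

end Groth.Agent.DeltaIso38
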